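import Groth.Prelude
import Groth.Agent.EtFound.Descent

/-!
# Properness of a homomorphism which is proper on the kernel of a proper quotient

If `p : G ⟶ Q` is an fppf quotient with kernel `i : N ⟶ G`, `Q` is proper and `i ≫ u` is proper,
then `u` is proper: after base change along `H ◁ p`, the graph `(u, p) : G ⟶ H ⊗ Q` becomes
`(i ≫ u) ▷ G` up to an automorphism of `H ⊗ G`.
-/

set_option autoImplicit false
universe u
open CategoryTheory MonoidalCategory CartesianMonoidalCategory MonObj GrpObj AlgebraicGeometry CategoryTheory.Limits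

namespace ProperExt19

variable {S : Scheme.{u}}

lemma isPullback_fst_whiskerRight {A B : Over S} (f : A ⟶ B) (G : Over S) :
    IsPullback (f ▷ G) (fst A G) (fst B G) f := by
  refine ⟨⟨by simp⟩, ⟨PullbackCone.IsLimit.mk _ (fun s => lift s.snd (s.fst ≫ snd B G)) (fun s => ?_) (fun s => ?_)
    fun s m hm₁ hm₂ => ?_⟩⟩
  · apply CartesianMonoidalCategory.hom_ext
    · simp only [Category.assoc, whiskerRight_fst, lift_fst_assoc]
      exact s.condition.symm
    · simp
  · simp
  · apply CartesianMonoidalCategory.hom_ext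
    · simpa using hm₂
    · simp [← hm₁]

lemma isPullback_snd_whiskerLeft (H : Over S) {A B : Over S} (f : A ⟶ B) :
    IsPullback (H ◁ f) (snd H A) (snd H B) f := by
  refine ⟨⟨by simp⟩, ⟨PullbackCone.IsLimit.mk _ (fun s => lift (s.fst ≫ fst H B) s.snd) (fun s => ?_) (fun s => ?_)
    fun s m hm₁ hm₂ => ?_⟩⟩
  · apply CartesianMonoidalCategory.hom_ext
    · simp
    · simp only [Category.assoc, whiskerLeft_snd, lift_snd_assoc]
      exact s.condition.symm
  · simp
  · apply CartesianMonoidalCategory.hom_ext
    · simp [← hm₁]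
    · simpa using hm₂

variable {G N Q H : Over S} [GrpObj G] [GrpObj N] [GrpObj Q] [GrpObj H]

lemma isProper_left (p : G ⟶ Q) [IsMonHom p] [Surjective p.left] [Flat p.left] [QuasiCompact G.hom]
    [IsProper Q.hom] (i : N ⟶ G) [IsMonHom i] (hker : AlgGrp.IsKernel i p)
    (v : G ⟶ H) [IsMonHom v] (hv : IsProper (i ≫ v).left) : IsProper v.left := by
  let a : G ⊗ N ⟶ G := fst G N * (snd G N ≫ i)
  let b : G ⊗ N ⟶ H ⊗ G := lift (a ≫ v) (fst G N)
  have sq : IsPullback a b (lift v p) (H ◁ p) := by
    have hpi : i ≫ p = toUnit N ≫ η[Q] := hker.w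
    have hone : ∀ {T : Over S}, toUnit T ≫ η[Q] = (1 : T ⟶ Q) := fun {T} => rfl
    have hm : Mono i := hker.mono_fst_of_mono
    have hap : a ≫ p = fst G N ≫ p := by
      rw [MonObj.mul_comp, Category.assoc, hpi, hone, MonObj.comp_one, _root_.mul_one]
    have w : a ≫ lift v p = b ≫ H ◁ p := by
      apply CartesianMonoidalCategory.hom_ext <;> simp [b, hap]
    refine ⟨⟨w⟩, ⟨PullbackCone.IsLimit.mk _
      (fun s => lift (s.snd ≫ snd H G) (hker.lift ((s.snd ≫ snd H G)⁻¹ * s.fst) (toUnit _) ?_)) (fun s => ?_)
      (fun s => ?_) fun s m hm₁ hm₂ => ?_⟩⟩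
    · rw [hone, MonObj.mul_comp, GrpObj.inv_comp]
      have e := congrArg (· ≫ snd H Q) s.condition
      simp only [Category.assoc, lift_snd, whiskerLeft_snd] at e
      rw [e, Category.assoc, inv_mul_cancel]
    · rw [MonObj.comp_mul]
      simp
    · apply CartesianMonoidalCategory.hom_ext
      · simp only [b, Category.assoc, lift_fst]
        rw [← Category.assoc, MonObj.comp_mul]
        simp only [lift_fst, lift_snd_assoc, IsPullback.lift_fst, mul_inv_cancel_left]
        have e := congrArg (· ≫ fst H Q) s.condition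
        simpa using e
      · simp [b]
    · apply CartesianMonoidalCategory.hom_ext
      · simp only [b] at hm₂
        simpa using congrArg (· ≫ snd H G) hm₂
      · rw [← cancel_mono i]
        simp only [lift_snd, IsPullback.lift_fst, Category.assoc]
        have h2 : m ≫ fst G N = s.snd ≫ snd H G := by simpa [b] using congrArg (· ≫ snd H G) hm₂
        rw [← hm₁, MonObj.comp_mul, h2, inv_mul_cancel_left]
  let e : H ⊗ G ≅ H ⊗ G :=
    { hom := lift ((snd H G ≫ v) * fst H G) (snd H G)
      inv := lift ((snd H G ≫ v)⁻¹ * fst H G) (snd H G)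
      hom_inv_id := by
        apply CartesianMonoidalCategory.hom_ext <;>
          simp [MonObj.comp_mul, GrpObj.comp_inv]
      inv_hom_id := by
        apply CartesianMonoidalCategory.hom_ext <;>
          simp [MonObj.comp_mul] }
  have hb : b = (β_ G N).hom ≫ ((i ≫ v) ▷ G) ≫ e.hom := by
    apply CartesianMonoidalCategory.hom_ext <;>
      simp [b, a, e, MonObj.comp_mul, MonObj.mul_comp]
  have hb' : IsProper b.left := by
    have h1 : IsProper ((i ≫ v) ▷ G).left :=
      MorphismProperty.of_isPullback (P := @IsProper)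
        ((isPullback_fst_whiskerRight (i ≫ v) G).map (Over.forget S)).flip hv
    have h2 : IsIso (β_ G N).hom.left := ((Over.forget S).mapIso (β_ G N)).isIso_hom
    have h3 : IsIso e.hom.left := ((Over.forget S).mapIso e).isIso_hom
    rw [hb, Over.comp_left, Over.comp_left]
    exact (MorphismProperty.cancel_left_of_respectsIso @IsProper _ _).mpr
      ((MorphismProperty.cancel_right_of_respectsIso @IsProper _ _).mpr h1)
  have hqc : QuasiCompact p.left := by
    have : QuasiCompact (p.left ≫ Q.hom) := by rw [Over.w p]; infer_instance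
    exact QuasiCompact.of_comp p.left Q.hom
  have hp : (@Surjective ⊓ @Flat ⊓ @QuasiCompact : MorphismProperty Scheme.{u}) (H ◁ p).left := by
    have sq' := ((isPullback_snd_whiskerLeft H p).map (Over.forget S)).flip
    exact ⟨⟨MorphismProperty.of_isPullback sq' ‹Surjective p.left›,
      MorphismProperty.of_isPullback sq' ‹Flat p.left›⟩, MorphismProperty.of_isPullback sq' hqc⟩
  have := Groth.Agent.EtFound.fpqc_isProper.{u}
  have hγ : IsProper (lift v p).left :=
    MorphismProperty.of_isPullback_of_descendsAlong (P := @IsProper) ((sq.map (Over.forget S)).flip) hp hb'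
  have hf : IsProper (fst H Q).left := by
    rw [Over.fst_left]
    infer_instance
  have hcomp : v.left = (lift v p).left ≫ (fst H Q).left := by rw [← Over.comp_left, lift_fst]
  rw [hcomp]
  infer_instance

end ProperExt19
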